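import Groth.Agent.TorSmoothLib.Alg
import Groth.Agent.Dual3Lib.PerfPush
import Groth.Agent.RelFlatLib.TorDim

/-! Tor dimension of a morphism to a smooth scheme. -/

set_option autoImplicit false
set_option maxHeartbeats 1000000
set_option linter.style.haveILetI false

universe u

open CategoryTheory CategoryTheory.Limits AlgebraicGeometry

attribute [local instance] HasDerivedCategory.standard

namespace Groth.Agent.TorSmoothLib

variable {X Y : Scheme.{u}} (f : X ⟶ Y)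

/-- A bounded flat resolution on a pair of affine charts bounds the tor amplitude at each point. -/
theorem ampAt_of_FD {U : X.Opens} (hU : IsAffineOpen U) {V : Y.Opens} (hV : IsAffineOpen V) (e : U ≤ f ⁻¹ᵁ V)
    (d : ℕ) (hd : letI := (f.appLE V U e).hom.toAlgebra; DiagLib.FD Γ(Y, V) d Γ(X, U))
    (z : X) (hz : z ∈ U) : DerSch.HasTorAmplitudeAt f (-(d : ℤ)) 0 (DerSch.unitCx X) z := by
  letI := (f.appLE V U e).hom.toAlgebra
  have hzV : f z ∈ V := e hz
  letI := (f.stalkMap z).hom.toAlgebra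
  letI : Algebra Γ(X, U) (X.presheaf.stalk z) := TopCat.Presheaf.algebra_section_stalk X.presheaf ⟨z, hz⟩
  haveI := hU.isLocalization_stalk ⟨z, hz⟩
  letI : Algebra Γ(Y, V) (Y.presheaf.stalk (f z)) :=
    TopCat.Presheaf.algebra_section_stalk Y.presheaf ⟨f z, hzV⟩
  let q := (hU.primeIdealOf ⟨z, hz⟩).asIdeal
  have hp : q.comap (algebraMap Γ(Y, V) Γ(X, U)) = (hV.primeIdealOf ⟨f z, hzV⟩).asIdeal :=
    congrArg PrimeSpectrum.asIdeal
      (IsAffineOpen.comap_primeIdealOf_appLE (f := f) V hV U hU e hz)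
  haveI : IsLocalization.AtPrime (Y.presheaf.stalk (f z)) (q.comap (algebraMap Γ(Y, V) Γ(X, U))) := by
    have key : ∀ (r : Ideal Γ(Y, V)) [r.IsPrime], r = (hV.primeIdealOf ⟨f z, hzV⟩).asIdeal →
        IsLocalization.AtPrime (Y.presheaf.stalk (f z)) r := by
      intro r _ hr
      subst hr
      exact hV.isLocalization_stalk ⟨f z, hzV⟩
    exact key _ hp
  letI : Algebra Γ(Y, V) (X.presheaf.stalk z) :=
    ((algebraMap Γ(X, U) (X.presheaf.stalk z)).comp (algebraMap Γ(Y, V) Γ(X, U))).toAlgebra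
  haveI : IsScalarTower Γ(Y, V) Γ(X, U) (X.presheaf.stalk z) := IsScalarTower.of_algebraMap_eq fun _ => rfl
  haveI : IsScalarTower Γ(Y, V) (Y.presheaf.stalk (f z)) (X.presheaf.stalk z) :=
    IsScalarTower.of_algebraMap_eq fun a =>
      ((Scheme.Hom.germ_stalkMap_apply f V z hzV a).trans
        (TopCat.Presheaf.germ_res_apply X.presheaf (homOfLE e) z hz _).symm).symm
  exact (RelFlatLib.unitAt_iff f z _ _).2 ((DRingLib.hasTorDimLE_iff_amplitude _ d).1
    (Dual3Lib.hasTorDimLE_of_FD (Dual3Lib.fd_stalk hd q (Y.presheaf.stalk (f z)) (X.presheaf.stalk z))))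

theorem hasTorDimLE_of_smooth {S : Scheme.{u}} [IsLocallyNoetherian X]
    (p : X ⟶ S) (q : Y ⟶ S) (hf : f ≫ q = p) (n : ℕ) [SmoothOfRelativeDimension n q] [Flat p] :
    DerSch.HasTorDimLE f n := by
  subst hf
  intro x
  obtain ⟨U, hU, V, hV, hxV, e, hs⟩ :=
    SmoothOfRelativeDimension.exists_isStandardSmoothOfRelativeDimension (n := n) (f := q) (f.base x)
  obtain ⟨W, hW, hxW, hWV⟩ := exists_isAffineOpen_mem_and_subset (x := x) (U := f ⁻¹ᵁ V) hxV
  have e' : W ≤ f ⁻¹ᵁ V := hWV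
  have e'' : W ≤ (f ≫ q) ⁻¹ᵁ U := fun w hw => e (e' hw)
  haveI : IsNoetherianRing Γ(X, W) := IsLocallyNoetherian.component_noetherian ⟨W, hW⟩
  refine ampAt_of_FD f hW hV e' n ?_ x hxW
  letI := (q.appLE U V e).hom.toAlgebra
  letI := (f.appLE V W e').hom.toAlgebra
  letI := ((f ≫ q).appLE U W e'').hom.toAlgebra
  haveI : IsScalarTower Γ(S, U) Γ(Y, V) Γ(X, W) := IsScalarTower.of_algebraMap_eq fun a =>
    (congrArg (fun φ => φ.hom a) (Scheme.Hom.appLE_comp_appLE f q U V W e e')).symm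
  haveI : Module.Flat Γ(S, U) Γ(X, W) := Flat.flat_appLE (f ≫ q) hU hW e''
  haveI : Algebra.IsStandardSmoothOfRelativeDimension n Γ(S, U) Γ(Y, V) := hs
  exact fd_of_smooth Γ(S, U) Γ(Y, V) Γ(X, W) n

end Groth.Agent.TorSmoothLib
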