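import Groth.Agent.DiagLib.Regular
import Groth.Agent.PDLib.Fibre
import Groth.Agent.CommAlgDim.LocPD
import Groth.Agent.CohenLib.RegularField
import Groth.Agent.EtaEtLib.Fibres

/-! Tor dimension of a flat algebra factoring through a smooth algebra. -/

set_option autoImplicit false
set_option maxHeartbeats 1000000
set_option linter.style.haveILetI false

universe u

open CategoryTheory TensorProduct AlgebraicGeometry

namespace Groth.Agent.TorSmoothLib

theorem pdlt_of_pdltAt {R : Type u} [CommRing R] [IsNoetherianRing R] :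
    ∀ (n : ℕ) (M : Type u) [AddCommGroup M] [Module R M] [Module.Finite R M],
      (∀ p : PrimeSpectrum R, CommAlgDim.PDLTAt R M p (n + 1)) → CommAlgDim.PDLT R M (n + 1)
  | 0, M, _, _, _, h => by
    haveI : Module.FinitePresentation R M := Module.finitePresentation_of_finite R M
    haveI : Module.Flat R M := Module.flat_of_localized_maximal M fun P hP => by
      haveI := CommAlgDim.pdlt_one_iff.1 (h ⟨P, hP.isPrime⟩)
      haveI : Module.Flat (Localization.AtPrime P) (LocalizedModule P.primeCompl M) := Module.Flat.of_projective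
      first
        | exact Module.Flat.trans R (Localization.AtPrime P) (LocalizedModule P.primeCompl M)
        | exact ‹Module.Flat (Localization.AtPrime P) (LocalizedModule P.primeCompl M)›
    exact CommAlgDim.pdlt_one_iff.2 Module.Flat.projective_of_finitePresentation
  | n + 1, M, _, _, _, h => by
    obtain ⟨k, f, hf⟩ := Module.Finite.exists_fin' R M
    exact (CommAlgDim.pdlt_ker_iff f hf n).2
      (pdlt_of_pdltAt n (LinearMap.ker f) fun p => (CommAlgDim.pdltAt_ker_iff f hf p n).1 (h p))

/-- Finite modules over a regular ring of dimension at most `n`. -/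
theorem pdlt_of_isRegularRing {R : Type u} [CommRing R] [IsRegularRing R] {n : ℕ}
    (hn : ringKrullDim R ≤ n) (M : Type u) [AddCommGroup M] [Module R M] [Module.Finite R M] :
    CommAlgDim.PDLT R M (n + 1) := by
  refine pdlt_of_pdltAt n M fun p => ?_
  haveI : IsRegularLocalRing (Localization.AtPrime p.asIdeal) := inferInstance
  have h1 := CommAlgDim.pdlt_of_isRegularLocalRing (Localization.AtPrime p.asIdeal)
    (LocalizedModule p.asIdeal.primeCompl M)
  refine CommAlgDim.PDLT.mono ?_ h1
  have h2 : ((IsLocalRing.maximalIdeal (Localization.AtPrime p.asIdeal)).spanFinrank : WithBot ℕ∞) ≤ n := by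
    rw [IsRegularLocalRing.spanFinrank_maximalIdeal,
      IsLocalization.AtPrime.ringKrullDim_eq_height p.asIdeal]
    exact (Ideal.height_le_ringKrullDim_of_ne_top p.2.ne_top).trans hn
  exact Nat.add_le_add_right (by exact_mod_cast h2) 1

/-- A finite module of bounded projective dimension has a bounded flat resolution. -/
theorem FD_of_pdlt {R : Type u} [CommRing R] [IsNoetherianRing R] :
    ∀ (n : ℕ) (M : Type u) [AddCommGroup M] [Module R M] [Module.Finite R M],
      CommAlgDim.PDLT R M (n + 1) → DiagLib.FD R n M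
  | 0, M, _, _, _, h => by
    haveI := CommAlgDim.pdlt_one_iff.1 h
    exact (Module.Flat.of_projective : Module.Flat R M)
  | n + 1, M, _, _, _, h => by
    obtain ⟨k, f, hf⟩ := Module.Finite.exists_fin' R M
    exact ⟨Fin k → R, _, _, f, inferInstance, hf,
      FD_of_pdlt n (LinearMap.ker f) ((CommAlgDim.pdlt_ker_iff f hf n).1 h)⟩

/-- A flat algebra over the base has tor dimension at most `n` over a smooth algebra of relative
dimension `n` through which it factors. -/
theorem fd_of_smooth (A B C : Type u) [CommRing A] [CommRing B] [CommRing C] [Algebra A B] [Algebra A C]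
    [Algebra B C] [IsScalarTower A B C] [Module.Flat A C] [IsNoetherianRing C] (n : ℕ)
    [Algebra.IsStandardSmoothOfRelativeDimension n A B] : DiagLib.FD B n C := by
  haveI : Algebra.Smooth A B := by
    haveI := Algebra.IsStandardSmoothOfRelativeDimension.isStandardSmooth n (R := A) (S := B)
    infer_instance
  let π : C ⊗[A] B →ₐ[C] C := Algebra.TensorProduct.lift (AlgHom.id C C) (IsScalarTower.toAlgHom A B C)
    (fun _ _ => Commute.all _ _)
  have hπ : ∀ (c : C) (b : B), π (c ⊗ₜ b) = c * algebraMap B C b := fun c b => by simp [π]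
  letI : Module (C ⊗[A] B) C := Module.compHom C (π : C ⊗[A] B →+* C)
  have hsmul : ∀ (z : C ⊗[A] B) (c : C), z • c = π z * c := fun z c => rfl
  haveI : IsScalarTower C (C ⊗[A] B) C := IsScalarTower.of_algebraMap_smul fun c x => by
    rw [hsmul, AlgHom.commutes, Algebra.algebraMap_self, RingHom.id_apply, smul_eq_mul]
  haveI : Module.Finite (C ⊗[A] B) C := Module.Finite.of_restrictScalars_finite C (C ⊗[A] B) C
  haveI : IsNoetherianRing (C ⊗[A] B) := Algebra.FiniteType.isNoetherianRing C _
  haveI : Module.FinitePresentation (C ⊗[A] B) C := Module.finitePresentation_of_finite _ _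
  have hpd : CommAlgDim.PDLT (C ⊗[A] B) C (n + 1) := by
    refine (PDLib.hasPDLE_iff_fibre (A := C) (B := C ⊗[A] B) n C).2 fun p => ?_
    let κ := p.asIdeal.ResidueField
    letI : Algebra κ ((C ⊗[A] B) ⊗[C] κ) := Algebra.TensorProduct.rightAlgebra
    haveI hs : Algebra.IsStandardSmoothOfRelativeDimension n κ (κ ⊗[C] (C ⊗[A] B)) := inferInstance
    have hdim : ringKrullDim (κ ⊗[C] (C ⊗[A] B)) ≤ n := by
      haveI : SmoothOfRelativeDimension n
          (Spec.map (CommRingCat.ofHom (algebraMap κ (κ ⊗[C] (C ⊗[A] B))))) := by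
        rw [HasRingHomProperty.Spec_iff (P := @SmoothOfRelativeDimension n)]
        exact RingHom.locally_of RingHom.isStandardSmoothOfRelativeDimension_respectsIso _
          ((RingHom.isStandardSmoothOfRelativeDimension_algebraMap n).mpr hs)
      exact EtaEtLib.ringKrullDim_le_of_smooth κ (κ ⊗[C] (C ⊗[A] B)) n
    haveI : Algebra.Smooth κ (κ ⊗[C] (C ⊗[A] B)) := inferInstance
    haveI : IsRegularRing (κ ⊗[C] (C ⊗[A] B)) := CohenLib.isRegularRing_of_smooth κ _
    let e : (κ ⊗[C] (C ⊗[A] B)) ≃+* ((C ⊗[A] B) ⊗[C] κ) :=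
      (Algebra.TensorProduct.comm C κ (C ⊗[A] B)).toRingEquiv
    haveI : IsRegularRing ((C ⊗[A] B) ⊗[C] κ) := IsRegularRing.of_ringEquiv e
    exact pdlt_of_isRegularRing ((ringKrullDim_eq_of_ringEquiv e).symm.le.trans hdim) _
  let ι : B →+* C ⊗[A] B := (Algebra.TensorProduct.includeRight : B →ₐ[A] C ⊗[A] B).toRingHom
  have hι : ι.Flat := by
    have h1 : (algebraMap B (B ⊗[A] C)).Flat := RingHom.flat_algebraMap_iff.2 inferInstance
    have h2 : ι = (Algebra.TensorProduct.comm A B C).toRingEquiv.toRingHom.comp (algebraMap B (B ⊗[A] C)) := by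
      ext b
      simp [ι]
    rw [h2]
    exact h1.comp (RingHom.Flat.of_bijective (Algebra.TensorProduct.comm A B C).toRingEquiv.bijective)
  exact @DiagLib.FD_transfer B (C ⊗[A] B) C C _ _ ι.toAlgebra hι _ _ _ _ n (FD_of_pdlt n C hpd) (AddEquiv.refl C)
    fun b x => by
      show π ((1 : C) ⊗ₜ[A] b) * x = b • x
      rw [hπ, one_mul, Algebra.smul_def]

end Groth.Agent.TorSmoothLib
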